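import Cfsg.Agent.Lib.H35.TCMHeC.Data
import Cfsg.Agent.Lib.H35.TCIdx
set_option autoImplicit false
set_option maxRecDepth 100000
set_option linter.all false
namespace H35.TCMHeC
open H35.TC
/-- letters -/
inductive Lt | a | ai | b | bi
  deriving DecidableEq
/-- inverse letter -/
def inv : Lt → Lt
  | .a => .ai
  | .ai => .a
  | .b => .bi
  | .bi => .b
/-- table functions -/
noncomputable def T : Lt → ℕ → ℕ
  | .a => T_a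
  | .ai => T_ai
  | .b => T_b
  | .bi => T_bi
/-- decoding of letter codes -/
def lt : ℕ → Lt
  | 0 => .a
  | 1 => .ai
  | 2 => .b
  | _ => .bi
/-- Coxeter matrix (0: no relation) -/
def mm : Lt → Lt → ℕ
  | _, _ => 0
/-- extra relators `w ^ n` -/
def extra : List (List Lt × ℕ) := [
  ([.b], 3),
  ([.bi, .ai, .ai, .b, .ai, .b, .a, .bi, .a, .bi, .a, .a, .b, .a], 1),
  ([.a, .b, .a, .bi, .a, .bi, .a, .b, .ai, .b, .ai, .b, .ai, .bi, .ai, .b], 1),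
  ([.b, .a, .a, .bi, .a, .bi, .a, .a, .b, .ai, .b, .ai, .ai, .bi, .a, .a], 1),
  ([.a, .ai], 1),
  ([.ai, .a], 1),
  ([.b, .bi], 1),
  ([.bi, .b], 1)]
/-- relators -/
def rels : List (List Lt) := mkRels [] mm extra
/-- subgroup words -/
def subs : List (List Lt) := [
  [.a]]
noncomputable def dp_a_0 (j u : ℕ) : Bool :=
  Bool.rec (motive := fun _ => Bool) (lS MG [T_bi, T_ai, T_ai, T_b, T_ai, T_b, T_a, T_bi, T_a, T_bi, T_a, T_a, T_b] M (Nat.sub (T_a u) (Nat.mod (T_a u) M)) (nat_lit 40) (Nat.mod (T_a u) M) u) (lS MG [T_a, T_b, T_a, T_bi, T_ai, T_ai, T_b, T_ai, T_b, T_a, T_bi, T_a, T_bi] M (Nat.sub (T_a u) (Nat.mod (T_a u) M)) (nat_lit 40) (Nat.mod (T_a u) M) u) (Nat.ble (nat_lit 5) j)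
noncomputable def dp_a_1 (j u : ℕ) : Bool :=
  Bool.rec (motive := fun _ => Bool) (lS MG [T_b, T_ai, T_bi, T_ai, T_ai, T_b, T_ai, T_b, T_ai, T_bi, T_a, T_bi, T_a] M (Nat.sub (T_a u) (Nat.mod (T_a u) M)) (nat_lit 40) (Nat.mod (T_a u) M) u) (lS MG [T_b, T_a, T_bi, T_ai, T_ai, T_b, T_ai, T_b, T_a, T_bi, T_a, T_bi, T_a] M (Nat.sub (T_a u) (Nat.mod (T_a u) M)) (nat_lit 40) (Nat.mod (T_a u) M) u) (Nat.ble (nat_lit 7) j)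
noncomputable def dp_a_2 (j u : ℕ) : Bool :=
  Bool.rec (motive := fun _ => Bool) (dp_a_0 j u) (dp_a_1 j u) (Nat.ble (nat_lit 6) j)
noncomputable def dp_a_3 (j u : ℕ) : Bool :=
  Bool.rec (motive := fun _ => Bool) (lS MG [T_a, T_bi, T_a, T_bi, T_ai, T_ai, T_b, T_ai, T_b, T_ai, T_ai, T_bi, T_ai, T_ai, T_b] M (Nat.sub (T_a u) (Nat.mod (T_a u) M)) (nat_lit 40) (Nat.mod (T_a u) M) u) (lF [T_bi, T_a, T_a, T_b, T_a, T_bi, T_ai, T_ai, T_b, T_ai, T_b, T_a, T_bi] M (Nat.sub (T_a u) (Nat.mod (T_a u) M)) (Nat.mod (T_a u) M) u) (Nat.ble (nat_lit 9) j)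
noncomputable def dp_a_4 (j u : ℕ) : Bool :=
  Bool.rec (motive := fun _ => Bool) (lF [T_bi, T_ai, T_ai, T_b, T_ai, T_b, T_a, T_bi, T_a, T_bi, T_a, T_a, T_b] M (Nat.sub (T_a u) (Nat.mod (T_a u) M)) (Nat.mod (T_a u) M) u) (lS MG [T_bi, T_a, T_a, T_b, T_ai, T_bi, T_ai, T_ai, T_b, T_ai, T_b, T_ai, T_bi] M (Nat.sub (T_a u) (Nat.mod (T_a u) M)) (nat_lit 40) (Nat.mod (T_a u) M) u) (Nat.ble (nat_lit 12) j)
noncomputable def dp_a_5 (j u : ℕ) : Bool :=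
  Bool.rec (motive := fun _ => Bool) (lF [T_a, T_bi, T_a, T_bi, T_ai, T_ai, T_b, T_ai, T_b, T_ai, T_ai, T_bi, T_ai, T_ai, T_b] M (Nat.sub (T_a u) (Nat.mod (T_a u) M)) (Nat.mod (T_a u) M) u) (dp_a_4 j u) (Nat.ble (nat_lit 11) j)
noncomputable def dp_a_6 (j u : ℕ) : Bool :=
  Bool.rec (motive := fun _ => Bool) (dp_a_3 j u) (dp_a_5 j u) (Nat.ble (nat_lit 10) j)
noncomputable def dp_a_7 (j u : ℕ) : Bool :=
  Bool.rec (motive := fun _ => Bool) (lF [T_bi, T_a, T_bi, T_a, T_a, T_b, T_a, T_bi, T_ai, T_ai, T_b, T_ai, T_b] M (Nat.sub (T_a u) (Nat.mod (T_a u) M)) (Nat.mod (T_a u) M) u) (lF [T_b, T_ai, T_b, T_ai, T_ai, T_bi, T_a, T_a, T_b, T_a, T_a, T_bi, T_a, T_bi, T_a] M (Nat.sub (T_a u) (Nat.mod (T_a u) M)) (Nat.mod (T_a u) M) u) (Nat.ble (nat_lit 15) j)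
noncomputable def dp_a_8 (j u : ℕ) : Bool :=
  Bool.rec (motive := fun _ => Bool) (lH [] [] M (Nat.sub (T_a u) (Nat.mod (T_a u) M)) (Nat.mod (T_a u) M) u) (dp_a_7 j u) (Nat.ble (nat_lit 14) j)
noncomputable def dp_a_9 (j u : ℕ) : Bool :=
  Bool.rec (motive := fun _ => Bool) (lF [T_b, T_ai, T_bi, T_ai, T_ai, T_b, T_ai, T_b, T_ai, T_bi, T_a, T_bi, T_a] M (Nat.sub (T_a u) (Nat.mod (T_a u) M)) (Nat.mod (T_a u) M) u) (lS MG [T_bi, T_a, T_a, T_b, T_ai, T_b, T_ai, T_ai, T_bi, T_a, T_a, T_b, T_a, T_a, T_bi] M (Nat.sub (T_a u) (Nat.mod (T_a u) M)) (nat_lit 40) (Nat.mod (T_a u) M) u) (Nat.ble (nat_lit 18) j)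
noncomputable def dp_a_10 (j u : ℕ) : Bool :=
  Bool.rec (motive := fun _ => Bool) (lF [T_b, T_a, T_a, T_bi, T_a, T_bi, T_a, T_a, T_b, T_ai, T_b, T_ai, T_ai, T_bi, T_a] M (Nat.sub (T_a u) (Nat.mod (T_a u) M)) (Nat.mod (T_a u) M) u) (dp_a_9 j u) (Nat.ble (nat_lit 17) j)
noncomputable def dp_a_11 (j u : ℕ) : Bool :=
  Bool.rec (motive := fun _ => Bool) (dp_a_8 j u) (dp_a_10 j u) (Nat.ble (nat_lit 16) j)
noncomputable def dp_a_12 (j u : ℕ) : Bool :=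
  Bool.rec (motive := fun _ => Bool) (lS MG [T_b, T_a, T_bi, T_a, T_bi, T_a, T_bi, T_ai, T_b, T_ai, T_b, T_ai, T_bi, T_ai, T_bi] M (Nat.sub (T_a u) (Nat.mod (T_a u) M)) (nat_lit 40) (Nat.mod (T_a u) M) u) (lS MG [T_b, T_ai, T_b, T_ai, T_b, T_ai, T_bi, T_ai, T_b, T_a, T_b, T_a, T_bi, T_a, T_bi] M (Nat.sub (T_a u) (Nat.mod (T_a u) M)) (nat_lit 40) (Nat.mod (T_a u) M) u) (Nat.ble (nat_lit 21) j)
noncomputable def dp_a_13 (j u : ℕ) : Bool :=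
  Bool.rec (motive := fun _ => Bool) (lS MG [T_bi, T_a, T_b, T_ai, T_b, T_ai, T_b, T_ai, T_bi, T_ai, T_b, T_a, T_b, T_a, T_bi] M (Nat.sub (T_a u) (Nat.mod (T_a u) M)) (nat_lit 40) (Nat.mod (T_a u) M) u) (dp_a_12 j u) (Nat.ble (nat_lit 20) j)
noncomputable def dp_a_14 (j u : ℕ) : Bool :=
  Bool.rec (motive := fun _ => Bool) (lF [T_bi, T_a, T_a, T_b, T_ai, T_bi, T_ai, T_ai, T_b, T_ai, T_b, T_ai, T_bi] M (Nat.sub (T_a u) (Nat.mod (T_a u) M)) (Nat.mod (T_a u) M) u) (lS MG [T_bi, T_a, T_bi, T_a, T_a, T_b, T_a, T_bi, T_ai, T_ai, T_b, T_ai, T_b] M (Nat.sub (T_a u) (Nat.mod (T_a u) M)) (nat_lit 40) (Nat.mod (T_a u) M) u) (Nat.ble (nat_lit 24) j)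
noncomputable def dp_a_15 (j u : ℕ) : Bool :=
  Bool.rec (motive := fun _ => Bool) (lF [T_bi, T_a, T_bi, T_ai, T_b, T_ai, T_b, T_ai, T_bi, T_ai, T_bi, T_a, T_b, T_a, T_bi] M (Nat.sub (T_a u) (Nat.mod (T_a u) M)) (Nat.mod (T_a u) M) u) (dp_a_14 j u) (Nat.ble (nat_lit 23) j)
noncomputable def dp_a_16 (j u : ℕ) : Bool :=
  Bool.rec (motive := fun _ => Bool) (dp_a_13 j u) (dp_a_15 j u) (Nat.ble (nat_lit 22) j)
noncomputable def dp_a_17 (j u : ℕ) : Bool :=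
  Bool.rec (motive := fun _ => Bool) (dp_a_11 j u) (dp_a_16 j u) (Nat.ble (nat_lit 19) j)
noncomputable def dp_a_18 (j u : ℕ) : Bool :=
  Bool.rec (motive := fun _ => Bool) (dp_a_6 j u) (dp_a_17 j u) (Nat.ble (nat_lit 13) j)
noncomputable def dp_a_19 (j u : ℕ) : Bool :=
  Bool.rec (motive := fun _ => Bool) (dp_a_2 j u) (dp_a_18 j u) (Nat.ble (nat_lit 8) j)
noncomputable def dp_a_20 (j u : ℕ) : Bool :=
  Bool.rec (motive := fun _ => Bool) (Bool.rec (motive := fun _ => Bool) (lF1 T_ai M (Nat.sub (T_a u) (Nat.mod (T_a u) M)) (Nat.mod (T_a u) M) u) (lS MG [T_ai] M (Nat.sub (T_a u) (Nat.mod (T_a u) M)) (nat_lit 40) (Nat.mod (T_a u) M) u) (Nat.ble (nat_lit 3) j)) (dp_a_19 j u) (Nat.ble (nat_lit 4) j)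
noncomputable def disp_a (j u : ℕ) : Bool :=
  Bool.rec (motive := fun _ => Bool) (lDef P (nat_lit 0) (Nat.mod (T_a u) M) u) (Bool.rec (motive := fun _ => Bool) (lDef P (nat_lit 1) u (Nat.mod (T_a u) M)) (dp_a_20 j u) (Nat.ble (nat_lit 2) j)) (Nat.ble (nat_lit 1) j)
noncomputable def chk_a (j u : ℕ) : Bool :=
  Bool.rec (motive := fun _ => Bool) (disp_a j u) (Nat.ble (Nat.succ (MG u)) A) (Nat.ble A (T_a u))
noncomputable def dp_ai_0 (j u : ℕ) : Bool :=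
  Bool.rec (motive := fun _ => Bool) (lS MG [T_ai, T_b, T_ai, T_b, T_a, T_bi, T_a, T_bi, T_a, T_a, T_b, T_a, T_bi] M (Nat.sub (T_ai u) (Nat.mod (T_ai u) M)) (nat_lit 40) (Nat.mod (T_ai u) M) u) (lF [T_b, T_a, T_bi, T_a, T_bi, T_a, T_a, T_b, T_a, T_bi, T_ai, T_ai, T_b] M (Nat.sub (T_ai u) (Nat.mod (T_ai u) M)) (Nat.mod (T_ai u) M) u) (Nat.ble (nat_lit 6) j)
noncomputable def dp_ai_1 (j u : ℕ) : Bool :=
  Bool.rec (motive := fun _ => Bool) (lS MG [T_b, T_ai, T_b, T_ai, T_bi, T_a, T_bi, T_a, T_a, T_b, T_ai, T_bi, T_ai] M (Nat.sub (T_ai u) (Nat.mod (T_ai u) M)) (nat_lit 40) (Nat.mod (T_ai u) M) u) (dp_ai_0 j u) (Nat.ble (nat_lit 5) j)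
noncomputable def dp_ai_2 (j u : ℕ) : Bool :=
  Bool.rec (motive := fun _ => Bool) (lS MG [T_bi, T_ai, T_b, T_a, T_b, T_a, T_bi, T_a, T_bi, T_a, T_b, T_ai, T_b, T_ai, T_b] M (Nat.sub (T_ai u) (Nat.mod (T_ai u) M)) (nat_lit 40) (Nat.mod (T_ai u) M) u) (lS MG [T_bi, T_a, T_a, T_b, T_a, T_a, T_bi, T_a, T_bi, T_a, T_a, T_b, T_ai, T_b, T_ai] M (Nat.sub (T_ai u) (Nat.mod (T_ai u) M)) (nat_lit 40) (Nat.mod (T_ai u) M) u) (Nat.ble (nat_lit 8) j)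
noncomputable def dp_ai_3 (j u : ℕ) : Bool :=
  Bool.rec (motive := fun _ => Bool) (lF [T_b, T_ai, T_bi, T_a, T_bi, T_a, T_a, T_b, T_ai, T_bi, T_ai, T_ai, T_b] M (Nat.sub (T_ai u) (Nat.mod (T_ai u) M)) (Nat.mod (T_ai u) M) u) (lS MG [T_bi, T_ai, T_ai, T_b, T_ai, T_b, T_ai, T_bi, T_a, T_bi, T_a, T_a, T_b] M (Nat.sub (T_ai u) (Nat.mod (T_ai u) M)) (nat_lit 40) (Nat.mod (T_ai u) M) u) (Nat.ble (nat_lit 11) j)
noncomputable def dp_ai_4 (j u : ℕ) : Bool :=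
  Bool.rec (motive := fun _ => Bool) (lS MG [T_b, T_ai, T_b, T_a, T_bi, T_a, T_bi, T_a, T_a, T_b, T_a, T_bi, T_ai] M (Nat.sub (T_ai u) (Nat.mod (T_ai u) M)) (nat_lit 40) (Nat.mod (T_ai u) M) u) (dp_ai_3 j u) (Nat.ble (nat_lit 10) j)
noncomputable def dp_ai_5 (j u : ℕ) : Bool :=
  Bool.rec (motive := fun _ => Bool) (dp_ai_2 j u) (dp_ai_4 j u) (Nat.ble (nat_lit 9) j)
noncomputable def dp_ai_6 (j u : ℕ) : Bool :=
  Bool.rec (motive := fun _ => Bool) (dp_ai_1 j u) (dp_ai_5 j u) (Nat.ble (nat_lit 7) j)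
noncomputable def dp_ai_7 (j u : ℕ) : Bool :=
  Bool.rec (motive := fun _ => Bool) (lS MG [T_ai, T_b, T_ai, T_b, T_ai, T_bi, T_a, T_bi, T_a, T_a, T_b, T_ai, T_bi] M (Nat.sub (T_ai u) (Nat.mod (T_ai u) M)) (nat_lit 40) (Nat.mod (T_ai u) M) u) (lF [T_ai, T_b, T_ai, T_b, T_a, T_bi, T_a, T_bi, T_a, T_a, T_b, T_a, T_bi] M (Nat.sub (T_ai u) (Nat.mod (T_ai u) M)) (Nat.mod (T_ai u) M) u) (Nat.ble (nat_lit 14) j)
noncomputable def dp_ai_8 (j u : ℕ) : Bool :=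
  Bool.rec (motive := fun _ => Bool) (lS MG [T_b, T_a, T_bi, T_a, T_bi, T_a, T_a, T_b, T_a, T_bi, T_ai, T_ai, T_b] M (Nat.sub (T_ai u) (Nat.mod (T_ai u) M)) (nat_lit 40) (Nat.mod (T_ai u) M) u) (dp_ai_7 j u) (Nat.ble (nat_lit 13) j)
noncomputable def dp_ai_9 (j u : ℕ) : Bool :=
  Bool.rec (motive := fun _ => Bool) (lF [T_ai, T_bi, T_a, T_a, T_b, T_a, T_a, T_bi, T_a, T_bi, T_a, T_a, T_b, T_ai, T_b] M (Nat.sub (T_ai u) (Nat.mod (T_ai u) M)) (Nat.mod (T_ai u) M) u) (lF [T_b, T_ai, T_ai, T_bi, T_ai, T_ai, T_b, T_a, T_a, T_bi, T_a, T_bi, T_ai, T_ai, T_b] M (Nat.sub (T_ai u) (Nat.mod (T_ai u) M)) (Nat.mod (T_ai u) M) u) (Nat.ble (nat_lit 17) j)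
noncomputable def dp_ai_10 (j u : ℕ) : Bool :=
  Bool.rec (motive := fun _ => Bool) (lF [T_ai, T_b, T_ai, T_b, T_ai, T_bi, T_a, T_bi, T_a, T_a, T_b, T_ai, T_bi] M (Nat.sub (T_ai u) (Nat.mod (T_ai u) M)) (Nat.mod (T_ai u) M) u) (dp_ai_9 j u) (Nat.ble (nat_lit 16) j)
noncomputable def dp_ai_11 (j u : ℕ) : Bool :=
  Bool.rec (motive := fun _ => Bool) (lF [T_b, T_ai, T_b, T_ai, T_bi, T_a, T_bi, T_a, T_a, T_b, T_ai, T_bi, T_ai] M (Nat.sub (T_ai u) (Nat.mod (T_ai u) M)) (Nat.mod (T_ai u) M) u) (lF [T_b, T_ai, T_b, T_ai, T_bi, T_ai, T_b, T_a, T_b, T_a, T_bi, T_a, T_bi, T_a, T_b] M (Nat.sub (T_ai u) (Nat.mod (T_ai u) M)) (Nat.mod (T_ai u) M) u) (Nat.ble (nat_lit 20) j)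
noncomputable def dp_ai_12 (j u : ℕ) : Bool :=
  Bool.rec (motive := fun _ => Bool) (lF [T_b, T_ai, T_b, T_a, T_bi, T_a, T_bi, T_a, T_a, T_b, T_a, T_bi, T_ai] M (Nat.sub (T_ai u) (Nat.mod (T_ai u) M)) (Nat.mod (T_ai u) M) u) (dp_ai_11 j u) (Nat.ble (nat_lit 19) j)
noncomputable def dp_ai_13 (j u : ℕ) : Bool :=
  Bool.rec (motive := fun _ => Bool) (dp_ai_10 j u) (dp_ai_12 j u) (Nat.ble (nat_lit 18) j)
noncomputable def dp_ai_14 (j u : ℕ) : Bool :=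
  Bool.rec (motive := fun _ => Bool) (dp_ai_8 j u) (dp_ai_13 j u) (Nat.ble (nat_lit 15) j)
noncomputable def dp_ai_15 (j u : ℕ) : Bool :=
  Bool.rec (motive := fun _ => Bool) (lF [T_b, T_a, T_b, T_a, T_bi, T_a, T_bi, T_a, T_b, T_ai, T_b, T_ai, T_b, T_ai, T_bi] M (Nat.sub (T_ai u) (Nat.mod (T_ai u) M)) (Nat.mod (T_ai u) M) u) (lS MG [T_b, T_a, T_a, T_bi, T_a, T_bi, T_ai, T_ai, T_b, T_ai, T_b, T_ai, T_ai, T_bi, T_ai] M (Nat.sub (T_ai u) (Nat.mod (T_ai u) M)) (nat_lit 40) (Nat.mod (T_ai u) M) u) (Nat.ble (nat_lit 23) j)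
noncomputable def dp_ai_16 (j u : ℕ) : Bool :=
  Bool.rec (motive := fun _ => Bool) (lF [T_b, T_ai, T_b, T_ai, T_bi, T_ai, T_bi, T_a, T_b, T_a, T_bi, T_a, T_bi, T_a, T_bi] M (Nat.sub (T_ai u) (Nat.mod (T_ai u) M)) (Nat.mod (T_ai u) M) u) (dp_ai_15 j u) (Nat.ble (nat_lit 22) j)
noncomputable def dp_ai_17 (j u : ℕ) : Bool :=
  Bool.rec (motive := fun _ => Bool) (lF [T_bi, T_a, T_a, T_b, T_a, T_a, T_bi, T_a, T_bi, T_a, T_a, T_b, T_ai, T_b, T_ai] M (Nat.sub (T_ai u) (Nat.mod (T_ai u) M)) (Nat.mod (T_ai u) M) u) (lF [T_bi, T_ai, T_b, T_a, T_b, T_a, T_bi, T_a, T_bi, T_a, T_b, T_ai, T_b, T_ai, T_b] M (Nat.sub (T_ai u) (Nat.mod (T_ai u) M)) (Nat.mod (T_ai u) M) u) (Nat.ble (nat_lit 26) j)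
noncomputable def dp_ai_18 (j u : ℕ) : Bool :=
  Bool.rec (motive := fun _ => Bool) (lS MG [T_bi, T_a, T_b, T_a, T_bi, T_a, T_bi, T_a, T_bi, T_ai, T_b, T_ai, T_b, T_ai, T_bi] M (Nat.sub (T_ai u) (Nat.mod (T_ai u) M)) (nat_lit 40) (Nat.mod (T_ai u) M) u) (dp_ai_17 j u) (Nat.ble (nat_lit 25) j)
noncomputable def dp_ai_19 (j u : ℕ) : Bool :=
  Bool.rec (motive := fun _ => Bool) (dp_ai_16 j u) (dp_ai_18 j u) (Nat.ble (nat_lit 24) j)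
noncomputable def dp_ai_20 (j u : ℕ) : Bool :=
  Bool.rec (motive := fun _ => Bool) (lF [T_bi, T_ai, T_bi, T_a, T_b, T_a, T_bi, T_a, T_bi, T_a, T_bi, T_ai, T_b, T_ai, T_b] M (Nat.sub (T_ai u) (Nat.mod (T_ai u) M)) (Nat.mod (T_ai u) M) u) (lF [T_b, T_a, T_a, T_bi, T_a, T_bi, T_ai, T_ai, T_b, T_ai, T_b, T_ai, T_ai, T_bi, T_ai] M (Nat.sub (T_ai u) (Nat.mod (T_ai u) M)) (Nat.mod (T_ai u) M) u) (Nat.ble (nat_lit 29) j)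
noncomputable def dp_ai_21 (j u : ℕ) : Bool :=
  Bool.rec (motive := fun _ => Bool) (lF [T_b, T_ai, T_bi, T_ai, T_bi, T_a, T_b, T_a, T_bi, T_a, T_bi, T_a, T_bi, T_ai, T_b] M (Nat.sub (T_ai u) (Nat.mod (T_ai u) M)) (Nat.mod (T_ai u) M) u) (dp_ai_20 j u) (Nat.ble (nat_lit 28) j)
noncomputable def dp_ai_22 (j u : ℕ) : Bool :=
  Bool.rec (motive := fun _ => Bool) (lS MG [T_bi, T_ai, T_bi, T_a, T_b, T_a, T_bi, T_a, T_bi, T_a, T_bi, T_ai, T_b, T_ai, T_b] M (Nat.sub (T_ai u) (Nat.mod (T_ai u) M)) (nat_lit 40) (Nat.mod (T_ai u) M) u) (lF [T_bi, T_ai, T_ai, T_b, T_ai, T_b, T_ai, T_bi, T_a, T_bi, T_a, T_a, T_b] M (Nat.sub (T_ai u) (Nat.mod (T_ai u) M)) (Nat.mod (T_ai u) M) u) (Nat.ble (nat_lit 32) j)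
noncomputable def dp_ai_23 (j u : ℕ) : Bool :=
  Bool.rec (motive := fun _ => Bool) (lF [T_bi, T_a, T_b, T_a, T_bi, T_a, T_bi, T_a, T_bi, T_ai, T_b, T_ai, T_b, T_ai, T_bi] M (Nat.sub (T_ai u) (Nat.mod (T_ai u) M)) (Nat.mod (T_ai u) M) u) (dp_ai_22 j u) (Nat.ble (nat_lit 31) j)
noncomputable def dp_ai_24 (j u : ℕ) : Bool :=
  Bool.rec (motive := fun _ => Bool) (dp_ai_21 j u) (dp_ai_23 j u) (Nat.ble (nat_lit 30) j)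
noncomputable def dp_ai_25 (j u : ℕ) : Bool :=
  Bool.rec (motive := fun _ => Bool) (dp_ai_19 j u) (dp_ai_24 j u) (Nat.ble (nat_lit 27) j)
noncomputable def dp_ai_26 (j u : ℕ) : Bool :=
  Bool.rec (motive := fun _ => Bool) (dp_ai_14 j u) (dp_ai_25 j u) (Nat.ble (nat_lit 21) j)
noncomputable def dp_ai_27 (j u : ℕ) : Bool :=
  Bool.rec (motive := fun _ => Bool) (dp_ai_6 j u) (dp_ai_26 j u) (Nat.ble (nat_lit 12) j)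
noncomputable def dp_ai_28 (j u : ℕ) : Bool :=
  Bool.rec (motive := fun _ => Bool) (Bool.rec (motive := fun _ => Bool) (lF1 T_a M (Nat.sub (T_ai u) (Nat.mod (T_ai u) M)) (Nat.mod (T_ai u) M) u) (lS MG [T_a] M (Nat.sub (T_ai u) (Nat.mod (T_ai u) M)) (nat_lit 40) (Nat.mod (T_ai u) M) u) (Nat.ble (nat_lit 3) j)) (dp_ai_27 j u) (Nat.ble (nat_lit 4) j)
noncomputable def disp_ai (j u : ℕ) : Bool :=
  Bool.rec (motive := fun _ => Bool) (lDef P (nat_lit 0) u (Nat.mod (T_ai u) M)) (Bool.rec (motive := fun _ => Bool) (lDef P (nat_lit 1) (Nat.mod (T_ai u) M) u) (dp_ai_28 j u) (Nat.ble (nat_lit 2) j)) (Nat.ble (nat_lit 1) j)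
noncomputable def chk_ai (j u : ℕ) : Bool :=
  Bool.rec (motive := fun _ => Bool) (disp_ai j u) (Nat.ble (Nat.succ (MG u)) A) (Nat.ble A (T_ai u))
noncomputable def dp_b_0 (j u : ℕ) : Bool :=
  Bool.rec (motive := fun _ => Bool) (lF [T_a, T_a, T_bi, T_a, T_bi, T_ai, T_ai, T_b, T_ai, T_b, T_ai, T_ai, T_bi, T_ai, T_ai] M (Nat.sub (T_b u) (Nat.mod (T_b u) M)) (Nat.mod (T_b u) M) u) (lS MG [T_a, T_bi, T_ai, T_ai, T_b, T_ai, T_b, T_a, T_bi, T_a, T_bi, T_a, T_a] M (Nat.sub (T_b u) (Nat.mod (T_b u) M)) (nat_lit 40) (Nat.mod (T_b u) M) u) (Nat.ble (nat_lit 7) j)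
noncomputable def dp_b_1 (j u : ℕ) : Bool :=
  Bool.rec (motive := fun _ => Bool) (lS MG [T_ai, T_b, T_a, T_bi, T_a, T_bi, T_a, T_a, T_b, T_a, T_bi, T_ai, T_ai] M (Nat.sub (T_b u) (Nat.mod (T_b u) M)) (nat_lit 40) (Nat.mod (T_b u) M) u) (dp_b_0 j u) (Nat.ble (nat_lit 6) j)
noncomputable def dp_b_2 (j u : ℕ) : Bool :=
  Bool.rec (motive := fun _ => Bool) (lF [T_ai, T_b, T_ai, T_bi, T_a, T_bi, T_a, T_a, T_b, T_ai, T_bi, T_ai, T_ai] M (Nat.sub (T_b u) (Nat.mod (T_b u) M)) (Nat.mod (T_b u) M) u) (lF [T_ai, T_bi, T_a, T_bi, T_a, T_a, T_b, T_ai, T_bi, T_ai, T_ai, T_b, T_ai] M (Nat.sub (T_b u) (Nat.mod (T_b u) M)) (Nat.mod (T_b u) M) u) (Nat.ble (nat_lit 9) j)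
noncomputable def dp_b_3 (j u : ℕ) : Bool :=
  Bool.rec (motive := fun _ => Bool) (lS MG [T_a, T_a, T_bi, T_a, T_bi, T_ai, T_ai, T_b, T_ai, T_b, T_ai, T_ai, T_bi, T_ai, T_ai] M (Nat.sub (T_b u) (Nat.mod (T_b u) M)) (nat_lit 40) (Nat.mod (T_b u) M) u) (lS MG [T_ai, T_b, T_ai, T_bi, T_a, T_bi, T_a, T_a, T_b, T_ai, T_bi, T_ai, T_ai] M (Nat.sub (T_b u) (Nat.mod (T_b u) M)) (nat_lit 40) (Nat.mod (T_b u) M) u) (Nat.ble (nat_lit 12) j)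
noncomputable def dp_b_4 (j u : ℕ) : Bool :=
  Bool.rec (motive := fun _ => Bool) (lF [T_ai, T_bi, T_ai, T_ai, T_b, T_ai, T_b, T_ai, T_bi, T_a, T_bi, T_a, T_a] M (Nat.sub (T_b u) (Nat.mod (T_b u) M)) (Nat.mod (T_b u) M) u) (dp_b_3 j u) (Nat.ble (nat_lit 11) j)
noncomputable def dp_b_5 (j u : ℕ) : Bool :=
  Bool.rec (motive := fun _ => Bool) (dp_b_2 j u) (dp_b_4 j u) (Nat.ble (nat_lit 10) j)
noncomputable def dp_b_6 (j u : ℕ) : Bool :=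
  Bool.rec (motive := fun _ => Bool) (lS MG [T_a, T_b, T_a, T_bi, T_a, T_bi, T_a, T_b, T_ai, T_b, T_ai, T_b, T_ai, T_bi, T_ai] M (Nat.sub (T_b u) (Nat.mod (T_b u) M)) (nat_lit 40) (Nat.mod (T_b u) M) u) (lF [T_ai, T_b, T_a, T_bi, T_a, T_bi, T_a, T_a, T_b, T_a, T_bi, T_ai, T_ai] M (Nat.sub (T_b u) (Nat.mod (T_b u) M)) (Nat.mod (T_b u) M) u) (Nat.ble (nat_lit 14) j)
noncomputable def dp_b_7 (j u : ℕ) : Bool :=
  Bool.rec (motive := fun _ => Bool) (lS MG [T_ai, T_b, T_ai, T_ai, T_bi, T_ai, T_ai, T_b, T_a, T_a, T_bi, T_a, T_bi, T_ai, T_ai] M (Nat.sub (T_b u) (Nat.mod (T_b u) M)) (nat_lit 40) (Nat.mod (T_b u) M) u) (lS MG [T_ai, T_bi, T_a, T_bi, T_a, T_a, T_b, T_ai, T_bi, T_ai, T_ai, T_b, T_ai] M (Nat.sub (T_b u) (Nat.mod (T_b u) M)) (nat_lit 40) (Nat.mod (T_b u) M) u) (Nat.ble (nat_lit 17) j)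
noncomputable def dp_b_8 (j u : ℕ) : Bool :=
  Bool.rec (motive := fun _ => Bool) (lS MG [T_ai, T_bi, T_ai, T_ai, T_b, T_ai, T_b, T_ai, T_bi, T_a, T_bi, T_a, T_a] M (Nat.sub (T_b u) (Nat.mod (T_b u) M)) (nat_lit 40) (Nat.mod (T_b u) M) u) (dp_b_7 j u) (Nat.ble (nat_lit 16) j)
noncomputable def dp_b_9 (j u : ℕ) : Bool :=
  Bool.rec (motive := fun _ => Bool) (dp_b_6 j u) (dp_b_8 j u) (Nat.ble (nat_lit 15) j)
noncomputable def dp_b_10 (j u : ℕ) : Bool :=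
  Bool.rec (motive := fun _ => Bool) (dp_b_5 j u) (dp_b_9 j u) (Nat.ble (nat_lit 13) j)
noncomputable def dp_b_11 (j u : ℕ) : Bool :=
  Bool.rec (motive := fun _ => Bool) (dp_b_1 j u) (dp_b_10 j u) (Nat.ble (nat_lit 8) j)
noncomputable def dp_b_12 (j u : ℕ) : Bool :=
  Bool.rec (motive := fun _ => Bool) (lF1 T_bi M (Nat.sub (T_b u) (Nat.mod (T_b u) M)) (Nat.mod (T_b u) M) u) (dp_b_11 j u) (Nat.ble (nat_lit 5) j)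
noncomputable def dp_b_13 (j u : ℕ) : Bool :=
  Bool.rec (motive := fun _ => Bool) (lS MG [T_bi] M (Nat.sub (T_b u) (Nat.mod (T_b u) M)) (nat_lit 40) (Nat.mod (T_b u) M) u) (dp_b_12 j u) (Nat.ble (nat_lit 4) j)
noncomputable def dp_b_14 (j u : ℕ) : Bool :=
  Bool.rec (motive := fun _ => Bool) (lF [T_b, T_b] M (Nat.sub (T_b u) (Nat.mod (T_b u) M)) (Nat.mod (T_b u) M) u) (dp_b_13 j u) (Nat.ble (nat_lit 3) j)
noncomputable def disp_b (j u : ℕ) : Bool :=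
  Bool.rec (motive := fun _ => Bool) (Bool.rec (motive := fun _ => Bool) (lDef P (nat_lit 3) u (Nat.mod (T_b u) M)) (lDef P (nat_lit 2) (Nat.mod (T_b u) M) u) (Nat.ble (nat_lit 1) j)) (dp_b_14 j u) (Nat.ble (nat_lit 2) j)
noncomputable def chk_b (j u : ℕ) : Bool :=
  Bool.rec (motive := fun _ => Bool) (disp_b j u) (Nat.ble (Nat.succ (MG u)) A) (Nat.ble A (T_b u))
noncomputable def dp_bi_0 (j u : ℕ) : Bool :=
  Bool.rec (motive := fun _ => Bool) (lS MG [T_b] M (Nat.sub (T_bi u) (Nat.mod (T_bi u) M)) (nat_lit 40) (Nat.mod (T_bi u) M) u) (lF [T_bi, T_bi] M (Nat.sub (T_bi u) (Nat.mod (T_bi u) M)) (Nat.mod (T_bi u) M) u) (Nat.ble (nat_lit 4) j)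
noncomputable def dp_bi_1 (j u : ℕ) : Bool :=
  Bool.rec (motive := fun _ => Bool) (lF [T_ai, T_ai, T_b, T_a, T_a, T_bi, T_a, T_bi, T_ai, T_ai, T_b, T_ai, T_b, T_ai, T_ai] M (Nat.sub (T_bi u) (Nat.mod (T_bi u) M)) (Nat.mod (T_bi u) M) u) (lF [T_a, T_a, T_b, T_ai, T_bi, T_ai, T_ai, T_b, T_ai, T_b, T_ai, T_bi, T_a] M (Nat.sub (T_bi u) (Nat.mod (T_bi u) M)) (Nat.mod (T_bi u) M) u) (Nat.ble (nat_lit 7) j)
noncomputable def dp_bi_2 (j u : ℕ) : Bool :=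
  Bool.rec (motive := fun _ => Bool) (lS MG [T_a, T_a, T_b, T_a, T_bi, T_ai, T_ai, T_b, T_ai, T_b, T_a, T_bi, T_a] M (Nat.sub (T_bi u) (Nat.mod (T_bi u) M)) (nat_lit 40) (Nat.mod (T_bi u) M) u) (dp_bi_1 j u) (Nat.ble (nat_lit 6) j)
noncomputable def dp_bi_3 (j u : ℕ) : Bool :=
  Bool.rec (motive := fun _ => Bool) (lS MG [T_ai, T_ai, T_b, T_ai, T_b, T_a, T_bi, T_a, T_bi, T_a, T_a, T_b, T_a] M (Nat.sub (T_bi u) (Nat.mod (T_bi u) M)) (nat_lit 40) (Nat.mod (T_bi u) M) u) (lF [T_a, T_a, T_b, T_a, T_a, T_bi, T_a, T_bi, T_a, T_a, T_b, T_ai, T_b, T_ai, T_ai] M (Nat.sub (T_bi u) (Nat.mod (T_bi u) M)) (Nat.mod (T_bi u) M) u) (Nat.ble (nat_lit 11) j)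
noncomputable def dp_bi_4 (j u : ℕ) : Bool :=
  Bool.rec (motive := fun _ => Bool) (lF [T_a, T_bi, T_a, T_a, T_b, T_a, T_bi, T_ai, T_ai, T_b, T_ai, T_b, T_a] M (Nat.sub (T_bi u) (Nat.mod (T_bi u) M)) (Nat.mod (T_bi u) M) u) (dp_bi_3 j u) (Nat.ble (nat_lit 10) j)
noncomputable def dp_bi_5 (j u : ℕ) : Bool :=
  Bool.rec (motive := fun _ => Bool) (lS MG [T_a, T_a, T_b, T_ai, T_bi, T_ai, T_ai, T_b, T_ai, T_b, T_ai, T_bi, T_a] M (Nat.sub (T_bi u) (Nat.mod (T_bi u) M)) (nat_lit 40) (Nat.mod (T_bi u) M) u) (dp_bi_4 j u) (Nat.ble (nat_lit 9) j)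
noncomputable def dp_bi_6 (j u : ℕ) : Bool :=
  Bool.rec (motive := fun _ => Bool) (lS MG [T_a, T_bi, T_ai, T_ai, T_b, T_ai, T_b, T_ai, T_ai, T_bi, T_ai, T_ai, T_b, T_a, T_a] M (Nat.sub (T_bi u) (Nat.mod (T_bi u) M)) (nat_lit 40) (Nat.mod (T_bi u) M) u) (lF [T_a, T_a, T_b, T_a, T_bi, T_ai, T_ai, T_b, T_ai, T_b, T_a, T_bi, T_a] M (Nat.sub (T_bi u) (Nat.mod (T_bi u) M)) (Nat.mod (T_bi u) M) u) (Nat.ble (nat_lit 13) j)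
noncomputable def dp_bi_7 (j u : ℕ) : Bool :=
  Bool.rec (motive := fun _ => Bool) (lF [T_a, T_b, T_ai, T_b, T_ai, T_b, T_ai, T_bi, T_ai, T_b, T_a, T_b, T_a, T_bi, T_a] M (Nat.sub (T_bi u) (Nat.mod (T_bi u) M)) (Nat.mod (T_bi u) M) u) (lS MG [T_a, T_bi, T_a, T_a, T_b, T_a, T_bi, T_ai, T_ai, T_b, T_ai, T_b, T_a] M (Nat.sub (T_bi u) (Nat.mod (T_bi u) M)) (nat_lit 40) (Nat.mod (T_bi u) M) u) (Nat.ble (nat_lit 16) j)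
noncomputable def dp_bi_8 (j u : ℕ) : Bool :=
  Bool.rec (motive := fun _ => Bool) (lS MG [T_ai, T_ai, T_b, T_ai, T_b, T_ai, T_bi, T_a, T_bi, T_a, T_a, T_b, T_ai] M (Nat.sub (T_bi u) (Nat.mod (T_bi u) M)) (nat_lit 40) (Nat.mod (T_bi u) M) u) (dp_bi_7 j u) (Nat.ble (nat_lit 15) j)
noncomputable def dp_bi_9 (j u : ℕ) : Bool :=
  Bool.rec (motive := fun _ => Bool) (dp_bi_6 j u) (dp_bi_8 j u) (Nat.ble (nat_lit 14) j)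
noncomputable def dp_bi_10 (j u : ℕ) : Bool :=
  Bool.rec (motive := fun _ => Bool) (dp_bi_5 j u) (dp_bi_9 j u) (Nat.ble (nat_lit 12) j)
noncomputable def dp_bi_11 (j u : ℕ) : Bool :=
  Bool.rec (motive := fun _ => Bool) (dp_bi_2 j u) (dp_bi_10 j u) (Nat.ble (nat_lit 8) j)
noncomputable def dp_bi_12 (j u : ℕ) : Bool :=
  Bool.rec (motive := fun _ => Bool) (dp_bi_0 j u) (dp_bi_11 j u) (Nat.ble (nat_lit 5) j)
noncomputable def dp_bi_13 (j u : ℕ) : Bool :=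
  Bool.rec (motive := fun _ => Bool) (lF1 T_b M (Nat.sub (T_bi u) (Nat.mod (T_bi u) M)) (Nat.mod (T_bi u) M) u) (dp_bi_12 j u) (Nat.ble (nat_lit 3) j)
noncomputable def disp_bi (j u : ℕ) : Bool :=
  Bool.rec (motive := fun _ => Bool) (lDef P (nat_lit 3) (Nat.mod (T_bi u) M) u) (Bool.rec (motive := fun _ => Bool) (lDef P (nat_lit 2) u (Nat.mod (T_bi u) M)) (dp_bi_13 j u) (Nat.ble (nat_lit 2) j)) (Nat.ble (nat_lit 1) j)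
noncomputable def chk_bi (j u : ℕ) : Bool :=
  Bool.rec (motive := fun _ => Bool) (disp_bi j u) (Nat.ble (Nat.succ (MG u)) A) (Nat.ble A (T_bi u))
noncomputable def dM_0 (j z1 z2 u : ℕ) : Bool :=
  Bool.rec (motive := fun _ => Bool) (mCo MG T_ai M (Nat.sub (MG u) (Nat.mod (MG u) M)) (nat_lit 40) z1 z2 u (Nat.mod (MG u) M)) (mCo MG T_a M (Nat.sub (MG u) (Nat.mod (MG u) M)) (nat_lit 40) z1 z2 u (Nat.mod (MG u) M)) (Nat.ble (nat_lit 1) j)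
noncomputable def dM_1 (j z1 z2 u : ℕ) : Bool :=
  mCo MG T_bi M (Nat.sub (MG u) (Nat.mod (MG u) M)) (nat_lit 40) z1 z2 u (Nat.mod (MG u) M)
noncomputable def dM_2 (j z1 z2 u : ℕ) : Bool :=
  mCo MG T_b M (Nat.sub (MG u) (Nat.mod (MG u) M)) (nat_lit 40) z1 z2 u (Nat.mod (MG u) M)
noncomputable def dM_3 (j z1 z2 u : ℕ) : Bool :=
  Bool.rec (motive := fun _ => Bool) (Bool.rec (motive := fun _ => Bool) (mRel MG [T_bi, T_ai, T_ai, T_b, T_ai, T_b, T_ai] [T_a, T_bi, T_ai, T_ai, T_b, T_ai, T_b] M (Nat.sub (MG u) (Nat.mod (MG u) M)) (nat_lit 40) z1 u (Nat.mod (MG u) M)) (mRel MG [T_bi, T_a, T_a, T_b, T_a, T_bi, T_ai, T_ai, T_b] [T_ai, T_b, T_ai, T_bi, T_a] M (Nat.sub (MG u) (Nat.mod (MG u) M)) (nat_lit 40) z1 u (Nat.mod (MG u) M)) (Nat.ble (nat_lit 5) j)) (Bool.rec (motive := fun _ => Bool) (Bool.rec (motive := fun _ => Bool) (mRel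 MG [T_a, T_bi, T_ai, T_ai, T_b, T_ai, T_b, T_ai, T_ai, T_bi, T_ai, T_ai, T_b, T_a] [T_b, T_ai] M (Nat.sub (MG u) (Nat.mod (MG u) M)) (nat_lit 40) z1 u (Nat.mod (MG u) M)) (mRel MG [T_a, T_b, T_a, T_bi, T_ai, T_ai, T_b, T_ai, T_b, T_a] [T_ai, T_b, T_ai, T_b] M (Nat.sub (MG u) (Nat.mod (MG u) M)) (nat_lit 40) z1 u (Nat.mod (MG u) M)) (Nat.ble (nat_lit 7) j)) (Bool.rec (motive := fun _ => Bool) (mRel MG [T_a, T_bi, T_a] [T_b, T_ai, T_bi, T_ai, T_bi, T_a, T_b, T_a, T_bi, T_a, T_bi, T_a, T_bi] M (Nat.sub (MG u) (Nat.mod (MG u) M)) (nat_lit 40) z1 u (Nat.mod (MG u) M)) (Bool.rec (motive := fun _ => Bool) (mRel MG [T_ai, T_bi, T_ai, T_ai, T_b, T_ai, T_b, T_ai, T_bi, T_a, T_bi, T_a, T_a] [T_bi] M (Nat.sub (MG u) (Nat.mod (MG u) M)) (nat_lit 40) z1 u (Nat.mod (MG u) M)) (mRel MG [T_a, T_bi, T_ai, T_ai, T_b, T_ai, T_b, T_ai, T_ai,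 T_bi, T_ai] [T_b, T_ai, T_ai, T_bi, T_a] M (Nat.sub (MG u) (Nat.mod (MG u) M)) (nat_lit 40) z1 u (Nat.mod (MG u) M)) (Nat.ble (nat_lit 10) j)) (Nat.ble (nat_lit 9) j)) (Nat.ble (nat_lit 8) j)) (Nat.ble (nat_lit 6) j)
noncomputable def dM_4 (j z1 z2 u : ℕ) : Bool :=
  Bool.rec (motive := fun _ => Bool) (Bool.rec (motive := fun _ => Bool) (Bool.rec (motive := fun _ => Bool) (mRel MG [T_b, T_ai, T_bi, T_a, T_bi, T_a, T_a, T_b, T_ai, T_bi] [T_a, T_bi, T_a, T_a] M (Nat.sub (MG u) (Nat.mod (MG u) M)) (nat_lit 40) z1 u (Nat.mod (MG u) M)) (mRel MG [T_a, T_bi, T_a, T_bi, T_a, T_a, T_b, T_a, T_bi, T_ai, T_ai, T_b] [T_bi, T_a] M (Nat.sub (MG u) (Nat.mod (MG u) M)) (nat_lit 40) z1 u (Nat.mod (MG u) M)) (Nat.ble (nat_lit 12) j)) (Bool.rec (motive := fun _ => Bool) (mRel MG [T_a, T_b, T_ai, T_bi, T_ai, T_ai, T_b] [T_ai, T_b, T_ai, T_b,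 T_a, T_bi, T_a] M (Nat.sub (MG u) (Nat.mod (MG u) M)) (nat_lit 40) z1 u (Nat.mod (MG u) M)) (Bool.rec (motive := fun _ => Bool) (mRel MG [T_a, T_b, T_a, T_bi] [T_ai, T_b, T_ai, T_b, T_ai, T_bi, T_a, T_bi, T_a, T_a] M (Nat.sub (MG u) (Nat.mod (MG u) M)) (nat_lit 40) z1 u (Nat.mod (MG u) M)) (mRel MG [T_bi, T_a, T_b, T_a, T_bi, T_a, T_bi, T_a, T_bi, T_ai] [T_a, T_b, T_a, T_bi, T_a, T_bi] M (Nat.sub (MG u) (Nat.mod (MG u) M)) (nat_lit 40) z1 u (Nat.mod (MG u) M)) (Nat.ble (nat_lit 15) j)) (Nat.ble (nat_lit 14) j)) (Nat.ble (nat_lit 13) j)) (Bool.rec (motive := fun _ => Bool) (Bool.rec (motive := fun _ => Bool) (mRel MG [T_ai, T_ai] [T_b, T_a, T_a, T_bi, T_a, T_bi, T_a, T_a, T_b, T_ai, T_b, T_ai, T_ai, T_bi] M (Nat.sub (MG u) (Nat.mod (MG u) M)) (nat_lit 40) z1 u (Nat.mod (MG u) M)) (mRel MG [T_bi, T_a, T_bi, T_ai, T_b, T_ai,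 T_b, T_ai, T_bi, T_ai, T_bi] [T_ai, T_b, T_ai, T_bi, T_ai] M (Nat.sub (MG u) (Nat.mod (MG u) M)) (nat_lit 40) z1 u (Nat.mod (MG u) M)) (Nat.ble (nat_lit 17) j)) (Bool.rec (motive := fun _ => Bool) (mRel MG [T_a, T_bi, T_a, T_a, T_b, T_a, T_bi] [T_b, T_ai, T_bi, T_a, T_bi, T_a, T_a] M (Nat.sub (MG u) (Nat.mod (MG u) M)) (nat_lit 40) z1 u (Nat.mod (MG u) M)) (Bool.rec (motive := fun _ => Bool) (mRel MG [T_ai, T_ai, T_b, T_ai, T_b, T_a, T_bi, T_a, T_bi, T_a, T_a] [T_b, T_ai, T_bi] M (Nat.sub (MG u) (Nat.mod (MG u) M)) (nat_lit 40) z1 u (Nat.mod (MG u) M)) (mRel MG [T_a, T_bi, T_a, T_a, T_b] [T_b, T_ai, T_bi, T_a, T_bi, T_a, T_a, T_b, T_ai] M (Nat.sub (MG u) (Nat.mod (MG u) M)) (nat_lit 40) z1 u (Nat.mod (MG u) M)) (Nat.ble (nat_lit 20) j)) (Nat.ble (nat_lit 19) j)) (Nat.ble (nat_lit 18) j)) (Nat.ble (nat_lit 16) j)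
noncomputable def dM_5 (j z1 z2 u : ℕ) : Bool :=
  Bool.rec (motive := fun _ => Bool) (dM_3 j z1 z2 u) (dM_4 j z1 z2 u) (Nat.ble (nat_lit 11) j)
noncomputable def dM_6 (j z1 z2 u : ℕ) : Bool :=
  Bool.rec (motive := fun _ => Bool) (Bool.rec (motive := fun _ => Bool) (Bool.rec (motive := fun _ => Bool) (mRel MG [T_ai, T_bi, T_ai, T_ai, T_b, T_ai, T_b, T_ai, T_bi, T_a, T_bi] [T_bi, T_ai, T_ai] M (Nat.sub (MG u) (Nat.mod (MG u) M)) (nat_lit 40) z1 u (Nat.mod (MG u) M)) (mRel MG [T_b, T_a, T_a, T_bi] [T_a, T_a, T_b, T_a, T_a, T_bi, T_a, T_bi, T_a, T_a, T_b, T_ai] M (Nat.sub (MG u) (Nat.mod (MG u) M)) (nat_lit 40) z1 u (Nat.mod (MG u) M)) (Nat.ble (nat_lit 22) j)) (Bool.rec (motive := fun _ => Bool) (mRel MG [T_bi, T_a, T_bi, T_a, T_b, T_ai, T_b, T_ai, T_b, T_ai, T_bi] [T_ai, T_bi, T_ai, T_bi, T_a] M (Nat.sub (MG u) (Nat.mod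 (MG u) M)) (nat_lit 40) z1 u (Nat.mod (MG u) M)) (Bool.rec (motive := fun _ => Bool) (mRel MG [T_ai, T_ai, T_b, T_ai, T_b, T_ai, T_ai, T_bi, T_ai, T_ai, T_b, T_a, T_a, T_bi] [T_b, T_ai] M (Nat.sub (MG u) (Nat.mod (MG u) M)) (nat_lit 40) z1 u (Nat.mod (MG u) M)) (mRel MG [T_ai, T_b, T_ai, T_b, T_ai, T_bi] [T_a, T_b, T_a, T_bi, T_ai, T_ai, T_b, T_ai] M (Nat.sub (MG u) (Nat.mod (MG u) M)) (nat_lit 40) z1 u (Nat.mod (MG u) M)) (Nat.ble (nat_lit 25) j)) (Nat.ble (nat_lit 24) j)) (Nat.ble (nat_lit 23) j)) (Bool.rec (motive := fun _ => Bool) (Bool.rec (motive := fun _ => Bool) (mRel MG [T_a, T_bi, T_a, T_bi, T_a, T_a, T_b, T_a, T_bi] [T_bi, T_a, T_bi, T_a, T_a] M (Nat.sub (MG u) (Nat.mod (MG u) M)) (nat_lit 40) z1 u (Nat.mod (MG u) M)) (mRel MG [T_b, T_ai, T_b, T_ai, T_ai] [T_ai, T_ai, T_b, T_ai, T_b, T_ai, T_ai, T_bi, T_ai, T_ai,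 T_b] M (Nat.sub (MG u) (Nat.mod (MG u) M)) (nat_lit 40) z1 u (Nat.mod (MG u) M)) (Nat.ble (nat_lit 27) j)) (Bool.rec (motive := fun _ => Bool) (mRel MG [T_b, T_ai, T_b, T_ai, T_ai, T_bi, T_ai, T_ai, T_b] [T_a, T_a, T_b, T_ai, T_b, T_ai, T_ai] M (Nat.sub (MG u) (Nat.mod (MG u) M)) (nat_lit 40) z1 u (Nat.mod (MG u) M)) (Bool.rec (motive := fun _ => Bool) (mRel MG [T_a, T_bi, T_a, T_a, T_b] [T_b, T_a, T_bi, T_a, T_bi, T_a, T_a, T_b, T_a] M (Nat.sub (MG u) (Nat.mod (MG u) M)) (nat_lit 40) z1 u (Nat.mod (MG u) M)) (mRel MG [T_a, T_b, T_a, T_bi, T_ai, T_ai, T_b] [T_ai, T_b, T_ai, T_b, T_ai, T_bi, T_a] M (Nat.sub (MG u) (Nat.mod (MG u) M)) (nat_lit 40) z1 u (Nat.mod (MG u) M)) (Nat.ble (nat_lit 30) j)) (Nat.ble (nat_lit 29) j)) (Nat.ble (nat_lit 28) j)) (Nat.ble (nat_lit 26) j)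
noncomputable def dM_7 (j z1 z2 u : ℕ) : Bool :=
  Bool.rec (motive := fun _ => Bool) (Bool.rec (motive := fun _ => Bool) (Bool.rec (motive := fun _ => Bool) (mRel MG [T_a, T_bi, T_a, T_a] [T_b, T_ai, T_bi, T_a, T_bi, T_a, T_a, T_b, T_ai, T_bi] M (Nat.sub (MG u) (Nat.mod (MG u) M)) (nat_lit 40) z1 u (Nat.mod (MG u) M)) (mRel MG [T_a, T_bi, T_a, T_bi, T_ai, T_ai] [T_ai, T_bi, T_a, T_a, T_b, T_a, T_a, T_bi, T_a, T_bi] M (Nat.sub (MG u) (Nat.mod (MG u) M)) (nat_lit 40) z1 u (Nat.mod (MG u) M)) (Nat.ble (nat_lit 32) j)) (Bool.rec (motive := fun _ => Bool) (mRel MG [T_ai, T_b, T_a] [T_bi, T_a, T_a, T_b, T_ai, T_bi, T_ai, T_ai, T_b, T_ai, T_b] M (Nat.sub (MG u) (Nat.mod (MG u) M)) (nat_lit 40) z1 u (Nat.mod (MG u) M)) (Bool.rec (motive := fun _ => Bool) (mRel MG [T_bi, T_a, T_bi, T_a] [T_a, T_bi, T_a, T_bi, T_a, T_a, T_b, T_a,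 T_bi, T_ai] M (Nat.sub (MG u) (Nat.mod (MG u) M)) (nat_lit 40) z1 u (Nat.mod (MG u) M)) (mRel MG [T_a, T_b, T_ai, T_b] [T_b, T_ai, T_b, T_ai, T_bi, T_ai, T_bi, T_a, T_b, T_a, T_bi, T_a] M (Nat.sub (MG u) (Nat.mod (MG u) M)) (nat_lit 40) z1 u (Nat.mod (MG u) M)) (Nat.ble (nat_lit 35) j)) (Nat.ble (nat_lit 34) j)) (Nat.ble (nat_lit 33) j)) (Bool.rec (motive := fun _ => Bool) (Bool.rec (motive := fun _ => Bool) (mRel MG [T_a, T_bi, T_ai, T_ai, T_b, T_ai, T_b, T_a, T_bi, T_a, T_bi, T_a] [T_bi, T_ai] M (Nat.sub (MG u) (Nat.mod (MG u) M)) (nat_lit 40) z1 u (Nat.mod (MG u) M)) (mRel MG [T_ai, T_b, T_a, T_bi, T_a, T_bi, T_a, T_a] [T_bi, T_a, T_a, T_b, T_ai, T_bi] M (Nat.sub (MG u) (Nat.mod (MG u) M)) (nat_lit 40) z1 u (Nat.mod (MG u) M)) (Nat.ble (nat_lit 37) j)) (Bool.rec (motive := fun _ => Bool) (mRel MG [T_ai, T_ai, T_b, T_ai,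 T_b, T_ai, T_bi, T_a, T_bi, T_a, T_a, T_b] [T_b, T_a] M (Nat.sub (MG u) (Nat.mod (MG u) M)) (nat_lit 40) z1 u (Nat.mod (MG u) M)) (Bool.rec (motive := fun _ => Bool) (mRel MG [T_a, T_a, T_bi, T_a, T_bi, T_ai, T_ai, T_b] [T_bi, T_a, T_a, T_b, T_a, T_a, T_bi, T_a] M (Nat.sub (MG u) (Nat.mod (MG u) M)) (nat_lit 40) z1 u (Nat.mod (MG u) M)) (mRel MG [T_a, T_bi, T_a, T_a, T_b, T_a, T_bi, T_ai] [T_b, T_ai, T_bi, T_a, T_bi, T_a] M (Nat.sub (MG u) (Nat.mod (MG u) M)) (nat_lit 40) z1 u (Nat.mod (MG u) M)) (Nat.ble (nat_lit 40) j)) (Nat.ble (nat_lit 39) j)) (Nat.ble (nat_lit 38) j)) (Nat.ble (nat_lit 36) j)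
noncomputable def dM_8 (j z1 z2 u : ℕ) : Bool :=
  Bool.rec (motive := fun _ => Bool) (dM_6 j z1 z2 u) (dM_7 j z1 z2 u) (Nat.ble (nat_lit 31) j)
noncomputable def dM_9 (j z1 z2 u : ℕ) : Bool :=
  Bool.rec (motive := fun _ => Bool) (dM_5 j z1 z2 u) (dM_8 j z1 z2 u) (Nat.ble (nat_lit 21) j)
noncomputable def dM_10 (j z1 z2 u : ℕ) : Bool :=
  Bool.rec (motive := fun _ => Bool) (Bool.rec (motive := fun _ => Bool) (Bool.rec (motive := fun _ => Bool) (mRel MG [T_a, T_bi, T_ai, T_b, T_ai, T_b, T_ai, T_bi, T_ai, T_bi, T_a, T_b] [T_b, T_ai, T_b, T_ai] M (Nat.sub (MG u) (Nat.mod (MG u) M)) (nat_lit 40) z1 u (Nat.mod (MG u) M)) (mRel MG [T_bi, T_a, T_b, T_a, T_bi, T_a, T_bi, T_a] [T_a, T_b, T_a, T_bi, T_a, T_bi, T_a, T_b] M (Nat.sub (MG u) (Nat.mod (MG u) M)) (nat_lit 40) z1 u (Nat.mod (MG u) M)) (Nat.ble (nat_lit 42) j)) (Bool.rec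 (motive := fun _ => Bool) (mRel MG [T_b, T_ai, T_b, T_ai, T_bi, T_a, T_bi, T_a] [T_a, T_a, T_b, T_a, T_bi, T_ai] M (Nat.sub (MG u) (Nat.mod (MG u) M)) (nat_lit 40) z1 u (Nat.mod (MG u) M)) (Bool.rec (motive := fun _ => Bool) (mRel MG [T_b, T_ai] [T_a, T_a, T_b, T_ai, T_bi, T_ai, T_ai, T_b, T_ai, T_b, T_ai, T_bi] M (Nat.sub (MG u) (Nat.mod (MG u) M)) (nat_lit 40) z1 u (Nat.mod (MG u) M)) (mRel MG [T_ai, T_bi, T_a, T_bi, T_a, T_a, T_b, T_ai, T_bi] [T_bi, T_a, T_bi, T_a, T_a] M (Nat.sub (MG u) (Nat.mod (MG u) M)) (nat_lit 40) z1 u (Nat.mod (MG u) M)) (Nat.ble (nat_lit 45) j)) (Nat.ble (nat_lit 44) j)) (Nat.ble (nat_lit 43) j)) (Bool.rec (motive := fun _ => Bool) (Bool.rec (motive := fun _ => Bool) (mRel MG [T_bi, T_a, T_bi, T_a] [T_ai, T_bi, T_a, T_bi, T_a, T_a, T_b, T_ai, T_bi, T_ai] M (Nat.sub (MG u) (Nat.mod (MG u) M))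 (nat_lit 40) z1 u (Nat.mod (MG u) M)) (mRel MG [T_a, T_bi, T_a] [T_b, T_ai, T_bi, T_a, T_bi, T_a, T_a, T_b, T_ai, T_bi, T_ai] M (Nat.sub (MG u) (Nat.mod (MG u) M)) (nat_lit 40) z1 u (Nat.mod (MG u) M)) (Nat.ble (nat_lit 47) j)) (Bool.rec (motive := fun _ => Bool) (mRel MG [T_a, T_a, T_bi, T_a, T_bi, T_a, T_a, T_b, T_ai, T_b, T_ai] [T_bi, T_ai, T_ai, T_b, T_a] M (Nat.sub (MG u) (Nat.mod (MG u) M)) (nat_lit 40) z1 u (Nat.mod (MG u) M)) (Bool.rec (motive := fun _ => Bool) (mRel MG [T_b, T_ai, T_bi, T_ai] [T_ai, T_ai, T_b, T_ai, T_b, T_a, T_bi, T_a, T_bi, T_a] M (Nat.sub (MG u) (Nat.mod (MG u) M)) (nat_lit 40) z1 u (Nat.mod (MG u) M)) (mRel MG [T_bi, T_a, T_a, T_b, T_a, T_bi, T_ai, T_ai, T_b, T_ai, T_b] [T_ai, T_b, T_ai] M (Nat.sub (MG u) (Nat.mod (MG u) M)) (nat_lit 40) z1 u (Nat.mod (MG u) M)) (Nat.ble (nat_lit 50) j)) (Nat.ble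 (nat_lit 49) j)) (Nat.ble (nat_lit 48) j)) (Nat.ble (nat_lit 46) j)
noncomputable def dM_11 (j z1 z2 u : ℕ) : Bool :=
  Bool.rec (motive := fun _ => Bool) (Bool.rec (motive := fun _ => Bool) (Bool.rec (motive := fun _ => Bool) (mRel MG [T_b, T_a, T_bi, T_ai, T_ai, T_b, T_ai, T_b, T_a, T_bi, T_a] [T_ai, T_ai, T_b] M (Nat.sub (MG u) (Nat.mod (MG u) M)) (nat_lit 40) z1 u (Nat.mod (MG u) M)) (mRel MG [T_a, T_bi, T_a, T_a, T_b, T_ai, T_bi, T_ai, T_ai, T_b] [T_b, T_a, T_bi, T_a] M (Nat.sub (MG u) (Nat.mod (MG u) M)) (nat_lit 40) z1 u (Nat.mod (MG u) M)) (Nat.ble (nat_lit 52) j)) (Bool.rec (motive := fun _ => Bool) (mRel MG [T_bi, T_a, T_a] [T_ai, T_b, T_a, T_bi, T_a, T_bi, T_a, T_a, T_b, T_a, T_bi] M (Nat.sub (MG u) (Nat.mod (MG u) M)) (nat_lit 40) z1 u (Nat.mod (MG u) M)) (Bool.rec (motive := fun _ => Bool) (mRel MG [T_bi, T_a,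 T_bi, T_a, T_a, T_b] [T_ai, T_bi, T_a, T_bi, T_a, T_a, T_b, T_ai] M (Nat.sub (MG u) (Nat.mod (MG u) M)) (nat_lit 40) z1 u (Nat.mod (MG u) M)) (mRel MG [T_bi, T_ai, T_ai, T_b, T_ai, T_b, T_a, T_bi] [T_ai, T_bi, T_ai, T_ai, T_b, T_ai] M (Nat.sub (MG u) (Nat.mod (MG u) M)) (nat_lit 40) z1 u (Nat.mod (MG u) M)) (Nat.ble (nat_lit 55) j)) (Nat.ble (nat_lit 54) j)) (Nat.ble (nat_lit 53) j)) (Bool.rec (motive := fun _ => Bool) (Bool.rec (motive := fun _ => Bool) (mRel MG [T_b, T_ai, T_bi, T_ai, T_ai, T_b, T_ai, T_b] [T_ai, T_ai, T_b, T_ai, T_b, T_a] M (Nat.sub (MG u) (Nat.mod (MG u) M)) (nat_lit 40) z1 u (Nat.mod (MG u) M)) (mRel MG [T_bi, T_a, T_bi, T_a, T_a, T_b, T_ai, T_bi, T_ai, T_ai, T_b, T_ai] [T_a, T_bi] M (Nat.sub (MG u) (Nat.mod (MG u) M)) (nat_lit 40) z1 u (Nat.mod (MG u) M)) (Nat.ble (nat_lit 57) j)) (Bool.rec (motive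 := fun _ => Bool) (mRel MG [T_a, T_bi, T_a, T_bi, T_a, T_a, T_b, T_a, T_bi, T_ai, T_ai, T_b, T_ai, T_b] [] M (Nat.sub (MG u) (Nat.mod (MG u) M)) (nat_lit 40) z1 u (Nat.mod (MG u) M)) (Bool.rec (motive := fun _ => Bool) (mRel MG [T_b, T_ai, T_b, T_ai, T_bi, T_a, T_bi, T_a, T_a] [T_a, T_a, T_b, T_a, T_bi] M (Nat.sub (MG u) (Nat.mod (MG u) M)) (nat_lit 40) z1 u (Nat.mod (MG u) M)) (mRel MG [T_b, T_a, T_bi, T_ai, T_ai, T_b, T_ai, T_b, T_a, T_bi] [T_ai, T_ai, T_b, T_ai] M (Nat.sub (MG u) (Nat.mod (MG u) M)) (nat_lit 40) z1 u (Nat.mod (MG u) M)) (Nat.ble (nat_lit 60) j)) (Nat.ble (nat_lit 59) j)) (Nat.ble (nat_lit 58) j)) (Nat.ble (nat_lit 56) j)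
noncomputable def dM_12 (j z1 z2 u : ℕ) : Bool :=
  Bool.rec (motive := fun _ => Bool) (dM_10 j z1 z2 u) (dM_11 j z1 z2 u) (Nat.ble (nat_lit 51) j)
noncomputable def dM_13 (j z1 z2 u : ℕ) : Bool :=
  Bool.rec (motive := fun _ => Bool) (Bool.rec (motive := fun _ => Bool) (Bool.rec (motive := fun _ => Bool) (mRel MG [T_ai, T_ai, T_b, T_ai, T_b, T_ai, T_ai, T_bi, T_ai, T_ai, T_b, T_a, T_a] [T_b, T_ai, T_b] M (Nat.sub (MG u) (Nat.mod (MG u) M)) (nat_lit 40) z1 u (Nat.mod (MG u) M)) (mRel MG [T_a, T_b, T_a, T_bi, T_ai] [T_ai, T_b, T_ai, T_b, T_ai, T_bi, T_a, T_bi, T_a] M (Nat.sub (MG u) (Nat.mod (MG u) M)) (nat_lit 40) z1 u (Nat.mod (MG u) M)) (Nat.ble (nat_lit 62) j)) (Bool.rec (motive := fun _ => Bool) (mRel MG [T_bi, T_a, T_bi, T_a, T_a, T_b, T_a, T_bi, T_ai, T_ai] [T_ai, T_bi, T_a, T_bi] M (Nat.sub (MG u) (Nat.mod (MG u)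 M)) (nat_lit 40) z1 u (Nat.mod (MG u) M)) (Bool.rec (motive := fun _ => Bool) (mRel MG [T_a, T_bi, T_a] [T_ai, T_bi, T_ai, T_ai, T_b, T_a, T_a, T_bi, T_a, T_bi, T_ai, T_ai, T_b] M (Nat.sub (MG u) (Nat.mod (MG u) M)) (nat_lit 40) z1 u (Nat.mod (MG u) M)) (mRel MG [T_bi, T_a, T_bi, T_a, T_a, T_b, T_a, T_bi] [T_ai, T_bi, T_a, T_bi, T_a, T_a] M (Nat.sub (MG u) (Nat.mod (MG u) M)) (nat_lit 40) z1 u (Nat.mod (MG u) M)) (Nat.ble (nat_lit 65) j)) (Nat.ble (nat_lit 64) j)) (Nat.ble (nat_lit 63) j)) (Bool.rec (motive := fun _ => Bool) (Bool.rec (motive := fun _ => Bool) (mRel MG [T_ai, T_b, T_ai, T_ai] [T_bi, T_a, T_a, T_b, T_ai, T_b, T_ai, T_ai, T_bi, T_a, T_a, T_b] M (Nat.sub (MG u) (Nat.mod (MG u) M)) (nat_lit 40) z1 u (Nat.mod (MG u) M)) (mRel MG [T_ai, T_bi, T_ai, T_b] [T_bi, T_a, T_bi, T_a, T_bi, T_ai, T_b, T_ai, T_b, T_ai,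 T_bi, T_ai] M (Nat.sub (MG u) (Nat.mod (MG u) M)) (nat_lit 40) z1 u (Nat.mod (MG u) M)) (Nat.ble (nat_lit 67) j)) (Bool.rec (motive := fun _ => Bool) (mRel MG [T_a, T_bi, T_a, T_a, T_b, T_a, T_bi, T_ai, T_ai, T_b, T_ai, T_b, T_a] [T_b] M (Nat.sub (MG u) (Nat.mod (MG u) M)) (nat_lit 40) z1 u (Nat.mod (MG u) M)) (Bool.rec (motive := fun _ => Bool) (mRel MG [T_a, T_a, T_bi, T_a, T_bi] [T_bi, T_ai, T_ai, T_b, T_a, T_a, T_bi, T_a, T_bi, T_ai, T_ai] M (Nat.sub (MG u) (Nat.mod (MG u) M)) (nat_lit 40) z1 u (Nat.mod (MG u) M)) (mRel MG [T_bi, T_a, T_bi, T_a, T_a, T_b, T_ai, T_bi, T_ai] [T_a, T_bi, T_a, T_bi, T_a] M (Nat.sub (MG u) (Nat.mod (MG u) M)) (nat_lit 40) z1 u (Nat.mod (MG u) M)) (Nat.ble (nat_lit 70) j)) (Nat.ble (nat_lit 69) j)) (Nat.ble (nat_lit 68) j)) (Nat.ble (nat_lit 66) j)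
noncomputable def dM_14 (j z1 z2 u : ℕ) : Bool :=
  Bool.rec (motive := fun _ => Bool) (Bool.rec (motive := fun _ => Bool) (Bool.rec (motive := fun _ => Bool) (mRel MG [T_a, T_bi, T_a, T_bi, T_a, T_a, T_b, T_a, T_bi, T_ai] [T_bi, T_a, T_bi, T_a] M (Nat.sub (MG u) (Nat.mod (MG u) M)) (nat_lit 40) z1 u (Nat.mod (MG u) M)) (mRel MG [T_b, T_a, T_bi, T_a, T_bi, T_a, T_a] [T_a, T_bi, T_a, T_a, T_b, T_ai, T_bi] M (Nat.sub (MG u) (Nat.mod (MG u) M)) (nat_lit 40) z1 u (Nat.mod (MG u) M)) (Nat.ble (nat_lit 72) j)) (Bool.rec (motive := fun _ => Bool) (mRel MG [T_a] [T_b, T_ai, T_b, T_ai, T_bi, T_a, T_bi, T_a, T_a, T_b, T_ai, T_bi, T_ai] M (Nat.sub (MG u) (Nat.mod (MG u) M)) (nat_lit 40) z1 u (Nat.mod (MG u) M)) (Bool.rec (motive := fun _ => Bool) (mRel MG [T_a, T_a, T_b, T_a, T_bi, T_ai, T_ai, T_b, T_ai, T_b, T_a] [T_b, T_ai, T_b]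 M (Nat.sub (MG u) (Nat.mod (MG u) M)) (nat_lit 40) z1 u (Nat.mod (MG u) M)) (mRel MG [T_a, T_b, T_ai] [T_ai, T_b, T_ai, T_b, T_a, T_bi, T_a, T_bi, T_a, T_a, T_b] M (Nat.sub (MG u) (Nat.mod (MG u) M)) (nat_lit 40) z1 u (Nat.mod (MG u) M)) (Nat.ble (nat_lit 75) j)) (Nat.ble (nat_lit 74) j)) (Nat.ble (nat_lit 73) j)) (Bool.rec (motive := fun _ => Bool) (Bool.rec (motive := fun _ => Bool) (mRel MG [T_ai, T_bi, T_ai, T_ai, T_b, T_ai, T_b, T_ai, T_bi, T_a] [T_bi, T_ai, T_ai, T_b] M (Nat.sub (MG u) (Nat.mod (MG u) M)) (nat_lit 40) z1 u (Nat.mod (MG u) M)) (mRel MG [T_ai, T_bi, T_a, T_bi, T_a, T_a, T_b, T_ai, T_bi, T_ai] [T_bi, T_a, T_bi, T_a] M (Nat.sub (MG u) (Nat.mod (MG u) M)) (nat_lit 40) z1 u (Nat.mod (MG u) M)) (Nat.ble (nat_lit 77) j)) (Bool.rec (motive := fun _ => Bool) (mRel MG [T_a, T_bi, T_ai, T_b, T_ai, T_b, T_ai,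 T_bi, T_ai] [T_b, T_ai, T_b, T_ai, T_bi, T_ai, T_b] M (Nat.sub (MG u) (Nat.mod (MG u) M)) (nat_lit 40) z1 u (Nat.mod (MG u) M)) (Bool.rec (motive := fun _ => Bool) (mRel MG [T_ai, T_b, T_ai] [T_a, T_b, T_ai, T_bi, T_ai, T_ai, T_b, T_ai, T_b, T_ai, T_bi] M (Nat.sub (MG u) (Nat.mod (MG u) M)) (nat_lit 40) z1 u (Nat.mod (MG u) M)) (mRel MG [T_ai, T_b, T_ai, T_bi, T_a, T_bi, T_a] [T_bi, T_a, T_a, T_b, T_a, T_bi, T_ai] M (Nat.sub (MG u) (Nat.mod (MG u) M)) (nat_lit 40) z1 u (Nat.mod (MG u) M)) (Nat.ble (nat_lit 80) j)) (Nat.ble (nat_lit 79) j)) (Nat.ble (nat_lit 78) j)) (Nat.ble (nat_lit 76) j)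
noncomputable def dM_15 (j z1 z2 u : ℕ) : Bool :=
  Bool.rec (motive := fun _ => Bool) (dM_13 j z1 z2 u) (dM_14 j z1 z2 u) (Nat.ble (nat_lit 71) j)
noncomputable def dM_16 (j z1 z2 u : ℕ) : Bool :=
  Bool.rec (motive := fun _ => Bool) (dM_12 j z1 z2 u) (dM_15 j z1 z2 u) (Nat.ble (nat_lit 61) j)
noncomputable def dM_17 (j z1 z2 u : ℕ) : Bool :=
  Bool.rec (motive := fun _ => Bool) (dM_9 j z1 z2 u) (dM_16 j z1 z2 u) (Nat.ble (nat_lit 41) j)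
noncomputable def dM_18 (j z1 z2 u : ℕ) : Bool :=
  Bool.rec (motive := fun _ => Bool) (dM_2 j z1 z2 u) (dM_17 j z1 z2 u) (Nat.ble (nat_lit 4) j)
noncomputable def dM_19 (j z1 z2 u : ℕ) : Bool :=
  Bool.rec (motive := fun _ => Bool) (dM_1 j z1 z2 u) (dM_18 j z1 z2 u) (Nat.ble (nat_lit 3) j)
noncomputable def dM_20 (j z1 z2 u : ℕ) : Bool :=
  Bool.rec (motive := fun _ => Bool) (dM_0 j z1 z2 u) (dM_19 j z1 z2 u) (Nat.ble (nat_lit 2) j)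
noncomputable def chkM (u : ℕ) : Bool :=
  Bool.rec (motive := fun _ => Bool) (band (Nat.ble (Nat.succ (Nat.mod (MG u) M)) u) (dM_20 (Nat.land (MR u) (nat_lit 127)) (Nat.land (Nat.shiftRight (MR u) (nat_lit 7)) (nat_lit 1023)) (Nat.shiftRight (MR u) (nat_lit 17)) u)) true (Nat.ble A (MG u))
noncomputable def chkN (u : ℕ) : Bool :=
  band (chk_a (Nat.land (Nat.shiftRight (RS u) (nat_lit 0)) (nat_lit 63)) u) (band (chk_ai (Nat.land (Nat.shiftRight (RS u) (nat_lit 6)) (nat_lit 63)) u) (band (chk_b (Nat.land (Nat.shiftRight (RS u) (nat_lit 12)) (nat_lit 63)) u) (band (chk_bi (Nat.land (Nat.shiftRight (RS u) (nat_lit 18)) (nat_lit 63)) u) (chkM u))))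
noncomputable def chkP (u : ℕ) : Bool := Bool.rec (motive := fun _ => Bool) (chkN u) true (Nat.ble M u)
noncomputable def liveP (u : ℕ) : Bool := Bool.rec (motive := fun _ => Bool) (Nat.ble A (MG u)) false (Nat.ble M u)
end H35.TCMHeC
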